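import Cfsg.Agent.Lib.ThreeTransp.M23Iso.Balls
import Cfsg.Agent.Lib.ThreeTransp.M22.SixOne

/-!
Transitivity of the local subgroup of a member of a group of type M(23) on the edges of its
neighbourhood, and the centraliser of a neighbour there.
-/

set_option autoImplicit false
set_option linter.unusedSectionVars false

namespace Cfsg.Agent.ThreeTransp.M23Iso

open Cfsg.Agent.ThreeTransp
open Cfsg.Agent.ThreeTransp.Factor (nb Hd Sd Dq Sep mem_Hd Hd_commute)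
open Cfsg.Agent.ThreeTransp.Cover (mem_nb_symm conj_nb)
open Cfsg.Agent.GenA.Tower (pr pr_mk pr_mem pr_mul pr_inv pr_comm pr_nb pr_inj image_nb_pr)
open Cfsg.Agent.ThreeTransp.M22Iso.Coord (stabGens)
open Cfsg.Agent.ThreeTransp.RankThree (loc)

universe u

variable {G : Type u} [Group G] [Finite G] {D : Set G}
  (hD : Cfsg.IsThreeTranspositionGroup D) (hprim : Cfsg.IsPrimitiveUnderConj D)
  (h23 : Cfsg.IsOfTypeM23 G D)
include hD hprim h23

theorem trans_nb {a x y : G} (ha : a ∈ D) (hx : x ∈ nb D a) (hy : y ∈ nb D a) :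
    ∃ h ∈ Hd D a, h * x * h⁻¹ = y := by
  have hw := GenA.Tower.M23.exists_comm hD hprim h23
  obtain ⟨g, hg, e⟩ := RankThree.linked_inner hD hprim hw
    (Primitive.cores_central hD hprim hw).1 ha hx.1 hy.1 hx.2.2 hy.2.2 hx.2.1 hy.2.1
  rw [GenA.Tower.M23.loc_eq hD hprim h23 ha] at hg
  exact ⟨g, hg, e⟩

/-- The centraliser of a neighbour is transitive on the further neighbours commuting with it. -/
theorem trans_inner {a x y z : G} (ha : a ∈ D) (hx : x ∈ nb D a) (hy : y ∈ nb D a ∩ nb D x)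
    (hz : z ∈ nb D a ∩ nb D x) : ∃ h ∈ Hd D a, Commute h x ∧ h * y * h⁻¹ = z := by
  have hs := GenA.Tower.M23.sep hD hprim h23 ha
  have hE := GenA.Tower.M23.grp hD hprim h23 ha
  have hEp := GenA.Tower.M23.prim hD hprim h23 ha
  have hw := M22.exists_commuting hE hEp (GenA.Tower.M23.t22 hD hprim h23 ha)
  have py := (pr_nb hD hs hx hy.1).2 hy.2
  have pz := (pr_nb hD hs hx hz.1).2 hz.2
  obtain ⟨g, hg, e⟩ := RankThree.linked_inner hE hEp hw
    (Primitive.cores_central hE hEp hw).1 (pr_mem hx) py.1 pz.1 py.2.2 pz.2.2 py.2.1 pz.2.1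
  have key : ∃ h ∈ Hd D a, Commute h x ∧ pr D a h = g := by
    clear e
    induction hg using Subgroup.closure_induction with
    | mem p hp =>
      obtain ⟨q, hq, rfl⟩ : p ∈ pr D a '' nb D a := by rw [image_nb_pr]; exact hp.1
      exact ⟨q, mem_Hd hq, ((pr_comm hD hx hq).1 hp.2).symm, rfl⟩
    | one => exact ⟨1, one_mem _, Commute.one_left _, by rw [pr_mk (one_mem _)]; rfl⟩
    | mul p q _ _ hp hq =>
      obtain ⟨m, m1, m2, rfl⟩ := hp
      obtain ⟨n, n1, n2, rfl⟩ := hq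
      exact ⟨m * n, mul_mem m1 n1, m2.mul_left n2, pr_mul m1 n1⟩
    | inv p _ hp =>
      obtain ⟨m, m1, m2, rfl⟩ := hp
      exact ⟨m⁻¹, inv_mem m1, m2.inv_left, pr_inv m1⟩
  obtain ⟨h, hh, hhx, rfl⟩ := key
  refine ⟨h, hh, hhx, pr_inj hs (M22.Chart.conj_mem_nb hD (Hd_commute hh).symm hy.1) hz.1 ?_⟩
  rw [pr_mul (mul_mem hh (mem_Hd hy.1)) (inv_mem hh), pr_mul hh (mem_Hd hy.1), pr_inv hh]
  exact e

/-- Transitivity on the ordered edges. -/
theorem trans_edge {a x y x₁ y₁ : G} (ha : a ∈ D) (hx : x ∈ nb D a) (hy : y ∈ nb D a ∩ nb D x)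
    (hx₁ : x₁ ∈ nb D a) (hy₁ : y₁ ∈ nb D a ∩ nb D x₁) :
    ∃ h ∈ Hd D a, h * x * h⁻¹ = x₁ ∧ h * y * h⁻¹ = y₁ := by
  obtain ⟨h, hh, e⟩ := trans_nb hD hprim h23 ha hx hx₁
  have hy' : h * y * h⁻¹ ∈ nb D a ∩ nb D x₁ :=
    ⟨M22.Chart.conj_mem_nb hD (Hd_commute hh).symm hy.1, e ▸ conj_nb hD h hy.2⟩
  obtain ⟨g, hg, hgx, e'⟩ := trans_inner hD hprim h23 ha hx₁ hy' hy₁
  refine ⟨g * h, mul_mem hg hh, ?_, ?_⟩
  · rw [show g * h * x * (g * h)⁻¹ = g * (h * x * h⁻¹) * g⁻¹ by group, e]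
    exact RankThree.conj_self_of_commute hgx.symm
  · rw [← e']
    group

/-- What the projection kills. -/
theorem pr_one_cases {a z : G} (ha : a ∈ D) (hz : z ∈ Hd D a) (h : pr D a z = 1) :
    z = 1 ∨ z = a := by
  rw [pr_mk hz, QuotientGroup.eq_one_iff] at h
  refine GenA.Tower.M23.centralizes_loc hD hprim h23 ha fun k hk => ?_
  rw [GenA.Tower.M23.loc_eq hD hprim h23 ha] at hk
  exact (congrArg Subtype.val (Subgroup.mem_center_iff.1 h ⟨k, hk⟩)).symm

/-- Six neighbours commuting with a given one whose product is the member. -/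
theorem exists_six {a x : G} (ha : a ∈ D) (hx : x ∈ nb D a) :
    ∃ l : List G, l.length = 6 ∧ (∀ q ∈ l, q ∈ nb D a ∧ Commute q x) ∧ l.prod = a := by
  classical
  have hs := GenA.Tower.M23.sep hD hprim h23 ha
  obtain ⟨m, hlen, hnd, hm, hcom, hprod⟩ := M22.exists_six_one
    (GenA.Tower.M23.grp hD hprim h23 ha) (GenA.Tower.M23.prim hD hprim h23 ha)
    (GenA.Tower.M23.t22 hD hprim h23 ha) (pr_mem hx)
  have h0 : ∀ p, ∃ q : G, p ∈ m → q ∈ nb D a ∩ nb D x ∧ pr D a q = p := by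
    intro p
    by_cases hp : p ∈ m
    · have h := hm p hp
      rw [← GenA.Tower.image_one hD hs hx] at h
      obtain ⟨q, hq, e⟩ := h
      exact ⟨q, fun _ => ⟨hq, e⟩⟩
    · exact ⟨1, fun h => absurd h hp⟩
  choose f hf using h0
  obtain ⟨l, hl⟩ : ∃ l, l = m.map f := ⟨_, rfl⟩
  have hmem : ∀ q ∈ l, q ∈ nb D a ∩ nb D x ∧ pr D a q ∈ m := by
    intro q hq
    rw [hl, List.mem_map] at hq
    obtain ⟨p, hp, rfl⟩ := hq
    exact ⟨(hf p hp).1, by rw [(hf p hp).2]; exact hp⟩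
  refine ⟨l, by rw [hl, List.length_map, hlen], fun q hq =>
    ⟨(hmem q hq).1.1, (hmem q hq).1.2.2.2.symm⟩, ?_⟩
  have hpr : ∀ n : List (Sd D a), (∀ p ∈ n, p ∈ m) →
      (n.map f).prod ∈ Hd D a ∧ pr D a (n.map f).prod = n.prod := by
    intro n hn
    induction n with
    | nil => exact ⟨one_mem _, by rw [List.map_nil, List.prod_nil, pr_mk (one_mem _)]; rfl⟩
    | cons p n ih =>
      obtain ⟨h1, h2⟩ := ih fun p' hp' => hn p' (List.mem_cons_of_mem _ hp')
      obtain ⟨h3, h4⟩ := hf p (hn p (by simp))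
      rw [List.map_cons, List.prod_cons, List.prod_cons]
      exact ⟨mul_mem (mem_Hd h3.1) h1, by rw [pr_mul (mem_Hd h3.1) h1, h4, h2]⟩
  obtain ⟨h1, h2⟩ := hpr m fun p hp => hp
  rw [← hl, hprod] at h2
  rw [← hl] at h1
  refine (pr_one_cases hD hprim h23 ha h1 h2).resolve_left ?_
  refine (Factor.M23_core hD hprim.1 h23).2 l ?_ ?_ ?_ (fun q hq => (hmem q hq).1.1.1) ?_
  · rw [hl]
    refine List.Nodup.map_on (fun p hp q hq e => ?_) hnd
    rw [← (hf p hp).2, ← (hf q hq).2, e]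
  · rw [hl, List.length_map, hlen]; norm_num
  · rw [hl, List.length_map, hlen]
  · intro p hp q hq
    obtain ⟨⟨hp1, -⟩, hp2⟩ := hmem p hp
    obtain ⟨⟨hq1, -⟩, hq2⟩ := hmem q hq
    exact (pr_comm hD hp1 hq1).1 (hcom _ hp2 _ hq2)

theorem mem_stabGens_self {a x : G} (ha : a ∈ D) (hx : x ∈ nb D a) : a ∈ stabGens D a x := by
  obtain ⟨l, -, hl, hprod⟩ := exists_six hD hprim h23 ha hx
  have : l.prod ∈ stabGens D a x := list_prod_mem fun q hq => Subgroup.subset_closure (hl q hq)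
  rwa [hprod] at this

/-- The centraliser of a neighbour in the local subgroup. -/
theorem mem_stabGens {a x h : G} (ha : a ∈ D) (hx : x ∈ nb D a) (hh : h ∈ Hd D a)
    (hc : Commute h x) : h ∈ stabGens D a x := by
  have hs := GenA.Tower.M23.sep hD hprim h23 ha
  have hc' : pr D a h ∈ Subgroup.centralizer ({pr D a x} : Set (Sd D a)) := by
    rw [Subgroup.mem_centralizer_iff]
    rintro _ rfl
    rw [← pr_mul (mem_Hd hx) hh, ← hc.eq, pr_mul hh (mem_Hd hx)]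
  rw [M22.centralizer_eq (GenA.Tower.M23.grp hD hprim h23 ha)
    (GenA.Tower.M23.prim hD hprim h23 ha) (GenA.Tower.M23.t22 hD hprim h23 ha) (pr_mem hx)] at hc'
  have key : ∀ q ∈ Hd (Dq D a) (pr D a x),
      ∃ m ∈ stabGens D a x, m ∈ Hd D a ∧ pr D a m = q := by
    intro q hq
    induction hq using Subgroup.closure_induction with
    | one => exact ⟨1, one_mem _, one_mem _, by rw [pr_mk (one_mem _)]; rfl⟩
    | mul p q _ _ hp hq =>
      obtain ⟨m, m1, m2, rfl⟩ := hp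
      obtain ⟨n, n1, n2, rfl⟩ := hq
      exact ⟨m * n, mul_mem m1 n1, mul_mem m2 n2, pr_mul m2 n2⟩
    | inv p _ hp =>
      obtain ⟨m, m1, m2, rfl⟩ := hp
      exact ⟨m⁻¹, inv_mem m1, inv_mem m2, pr_inv m2⟩
    | mem p hp =>
      rw [← GenA.Tower.image_one hD hs hx] at hp
      obtain ⟨m, hm, rfl⟩ := hp
      exact ⟨m, Subgroup.subset_closure ⟨hm.1, hm.2.2.2.symm⟩, mem_Hd hm.1, rfl⟩
  obtain ⟨m, hm, hm', e⟩ := key _ hc'
  have hz : pr D a (m⁻¹ * h) = 1 := by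
    rw [pr_mul (inv_mem hm') hh, pr_inv hm', e, inv_mul_cancel]
  rcases pr_one_cases hD hprim h23 ha (mul_mem (inv_mem hm') hh) hz with e' | e'
  · rwa [← inv_mul_eq_one.1 e']
  · rw [show h = m * (m⁻¹ * h) by group, e']
    exact mul_mem hm (mem_stabGens_self hD hprim h23 ha hx)

end Cfsg.Agent.ThreeTransp.M23Iso
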