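import Cfsg.Agent.Lib.ThreeTransp.M23Iso.Edge
import Cfsg.Agent.Lib.ThreeTransp.M23Iso.Trans
import Mathlib.Combinatorics.SimpleGraph.DegreeSum
import Mathlib.GroupTheory.Transfer

/-!
A map of neighbourhoods in two groups of type M(23) that extends to one neighbour comes from an
isomorphism of the local subgroups.
-/

set_option autoImplicit false
set_option linter.unusedSectionVars false

namespace Cfsg.Agent.ThreeTransp.M23Iso

open Cfsg.Agent.InvChar.Coset (FF)
open Cfsg.Agent.ThreeTransp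
open Cfsg.Agent.ThreeTransp.M22Iso
open Cfsg.Agent.ThreeTransp.Factor (nb Hd Sd Dq Sep mem_Hd Hd_commute)
open Cfsg.Agent.ThreeTransp.Cover (mem_nb_symm conj_nb)
open Cfsg.Agent.GenA.Tower (pr pr_mk pr_mem pr_mul pr_inv pr_comm pr_nb pr_inj image_nb_pr)
open Cfsg.Agent.ThreeTransp.M22Iso.Coord (stabGens)

universe u v

section Edges

variable {G : Type u} [Group G] [Finite G] {D : Set G}
  (hD : Cfsg.IsThreeTranspositionGroup D) (hprim : Cfsg.IsPrimitiveUnderConj D)
  (h23 : Cfsg.IsOfTypeM23 G D)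

/-- The commuting graph on a neighbourhood. -/
def nbGraph (D : Set G) (a : G) : SimpleGraph G where
  Adj p q := p ∈ nb D a ∧ q ∈ nb D a ∧ q ∈ nb D p
  symm := ⟨fun _ _ h => ⟨h.2.1, h.1, mem_nb_symm h.1.1 h.2.2⟩⟩
  loopless := ⟨fun _ h => h.2.2.2.1 rfl⟩

include hD hprim h23 in
theorem card_edges {a : G} (ha : a ∈ D) : Nat.card (nbGraph D a).edgeSet = 1216215 := by
  classical
  haveI : Fintype G := Fintype.ofFinite G
  have h := (nbGraph D a).sum_degrees_eq_twice_card_edges
  have hdeg : ∀ p : G, (nbGraph D a).degree p = if p ∈ nb D a then 693 else 0 := by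
    intro p
    rw [← SimpleGraph.card_neighborSet_eq_degree, ← Nat.card_eq_fintype_card,
      Nat.card_coe_set_eq]
    by_cases hp : p ∈ nb D a
    · rw [if_pos hp, ← GenA.Tower.M23.ncard_one hD hprim h23 ha hp]
      congr 1
      ext q
      exact ⟨fun h => ⟨h.2.1, h.2.2⟩, fun h => ⟨hp, h.1, h.2⟩⟩
    · rw [if_neg hp, Set.ncard_eq_zero]
      exact Set.eq_empty_iff_forall_notMem.2 fun q h => hp h.1
  rw [Finset.sum_congr rfl fun p _ => hdeg p, Finset.sum_ite, Finset.sum_const_zero, add_zero,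
    Finset.sum_const, smul_eq_mul] at h
  have h3510 : (Finset.univ.filter fun p : G => p ∈ nb D a).card = 3510 := by
    rw [← Set.ncard_coe_finset, ← GenA.Tower.M23.ncard_nb hD hprim h23 ha]
    congr 1
    ext p
    simp
  rw [h3510] at h
  rw [Nat.card_eq_fintype_card, ← Set.toFinset_card]
  have e : (nbGraph D a).edgeFinset = (nbGraph D a).edgeSet.toFinset := rfl
  rw [← e]
  omega

end Edges

variable {G : Type u} [Group G] [Finite G] {D : Set G}
  (hD : Cfsg.IsThreeTranspositionGroup D) (hprim : Cfsg.IsPrimitiveUnderConj D)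
  (h23 : Cfsg.IsOfTypeM23 G D)
  {G' : Type v} [Group G'] [Finite G'] {D' : Set G'}
  (hD' : Cfsg.IsThreeTranspositionGroup D')
  (hprim' : Cfsg.IsPrimitiveUnderConj D') (h23' : Cfsg.IsOfTypeM23 G' D')
include hD hprim h23 hD' hprim' h23'

/-- The lifting. -/
theorem exists_local {a x : G} {a' x' : G'} {θ φ : G → G'} (ha : a ∈ D) (ha' : a' ∈ D')
    (hθ : IsBall D a D' a' θ) (hx : x ∈ nb D a) (hφ : IsBall D x D' x' φ) (hθx : θ x = x')
    (hφa : φ a = a') (hag : ∀ q ∈ nb D a ∩ nb D x, φ q = θ q) :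
    ∃ ψ : ↥(Hd D a) ≃* ↥(Hd D' a'), (∀ q (hq : q ∈ nb D a), (ψ ⟨q, mem_Hd hq⟩ : G') = θ q) ∧
      (∀ h : ↥(Hd D a), Sym D a a' θ ((h : G), (ψ h : G'))) ∧
      ∀ h : ↥(Hd D a), Commute (h : G) x → ∀ u ∈ nb D x,
        φ ((h : G) * u * (h : G)⁻¹) = (ψ h : G') * φ u * (ψ h : G')⁻¹ := by
  classical
  subst hθx
  have hxa : a ∈ nb D x := mem_nb_symm ha hx
  let R : Subgroup (G × G') := Subgroup.closure {p | ∃ q ∈ nb D a, p = (q, θ q)}
  let Rx : Subgroup (G × G') :=
    Subgroup.closure {p | ∃ q ∈ nb D a, Commute q x ∧ p = (q, θ q)}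
  have hRx : Rx ≤ R := Subgroup.closure_mono fun p ⟨q, hq, _, e⟩ => ⟨q, hq, e⟩
  have invgen : ∀ q ∈ nb D a, ((q, θ q) : G × G')⁻¹ = (q, θ q) := fun q hq => by
    rw [Prod.inv_mk, Classes.inv hD hq.1, Classes.inv hD' (hθ.maps q hq).1]
  -- both coordinates act compatibly
  have P1 : ∀ p ∈ R, p.1 ∈ Hd D a ∧ p.2 ∈ Hd D' a' ∧ ∀ y ∈ nb D a,
      p.1 * y * p.1⁻¹ ∈ nb D a ∧ θ (p.1 * y * p.1⁻¹) = p.2 * θ y * p.2⁻¹ := by
    have gen : ∀ q ∈ nb D a, q ∈ Hd D a ∧ θ q ∈ Hd D' a' ∧ ∀ y ∈ nb D a,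
        q * y * q⁻¹ ∈ nb D a ∧ θ (q * y * q⁻¹) = θ q * θ y * (θ q)⁻¹ := fun q hq => by
      refine ⟨mem_Hd hq, mem_Hd (hθ.maps q hq), fun y hy => ⟨?_, ?_⟩⟩
      · exact M22.Chart.conj_mem_nb hD hq.2.2.symm hy
      · simp only [Classes.inv hD hq.1, Classes.inv hD' (hθ.maps q hq).1]
        exact hθ.line q hq y hy
    intro p hp
    induction hp using Subgroup.closure_induction'' with
    | mem p hp => obtain ⟨q, hq, rfl⟩ := hp; exact gen q hq
    | inv_mem p hp =>
      obtain ⟨q, hq, rfl⟩ := hp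
      rw [invgen q hq]; exact gen q hq
    | one => exact ⟨one_mem _, one_mem _, fun y hy => ⟨by simpa using hy, by simp⟩⟩
    | mul p q _ _ hp hq =>
      refine ⟨mul_mem hp.1 hq.1, mul_mem hp.2.1 hq.2.1, fun y hy => ?_⟩
      obtain ⟨h1, h2⟩ := hq.2.2 y hy
      obtain ⟨h3, h4⟩ := hp.2.2 _ h1
      rw [show (p * q).1 * y * (p * q).1⁻¹ = p.1 * (q.1 * y * q.1⁻¹) * p.1⁻¹ by simp [mul_assoc]]
      refine ⟨h3, ?_⟩
      rw [h4, h2]
      simp [mul_assoc]
  have hsym : ∀ p ∈ R, Sym D a a' θ p := fun p hp =>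
    ⟨(Hd_commute (P1 p hp).1).symm, (Hd_commute (P1 p hp).2.1).symm,
      fun y hy => ((P1 p hp).2.2 y hy).2⟩
  have P2 : ∀ p ∈ Rx, ∀ y ∈ nb D x,
      p.1 * y * p.1⁻¹ ∈ nb D x ∧ φ (p.1 * y * p.1⁻¹) = p.2 * φ y * p.2⁻¹ := by
    have gen : ∀ q ∈ nb D a, Commute q x → ∀ y ∈ nb D x,
        q * y * q⁻¹ ∈ nb D x ∧ φ (q * y * q⁻¹) = θ q * φ y * (θ q)⁻¹ := by
      intro q hq hqx y hy
      refine ⟨M22.Chart.conj_mem_nb hD hqx hy, ?_⟩
      by_cases e : q = x
      · subst e
        rw [mul_inv_eq_iff_eq_mul.2 hy.2.2.eq, mul_inv_eq_iff_eq_mul.2 (hφ.maps y hy).2.2.eq]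
      · have hqn : q ∈ nb D a ∩ nb D x := ⟨hq, hq.1, e, hqx.symm⟩
        rw [Classes.inv hD hq.1, hφ.line q hqn.2 y hy, hag q hqn,
          Classes.inv hD' (hθ.maps q hq).1]
    intro p hp
    induction hp using Subgroup.closure_induction'' with
    | mem p hp => obtain ⟨q, hq, hqx, rfl⟩ := hp; exact gen q hq hqx
    | inv_mem p hp =>
      obtain ⟨q, hq, hqx, rfl⟩ := hp
      rw [invgen q hq]; exact gen q hq hqx
    | one => exact fun y hy => ⟨by simpa using hy, by simp⟩
    | mul p q _ _ hp hq =>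
      intro y hy
      obtain ⟨h1, h2⟩ := hq y hy
      obtain ⟨h3, h4⟩ := hp _ h1
      rw [show (p * q).1 * y * (p * q).1⁻¹ = p.1 * (q.1 * y * q.1⁻¹) * p.1⁻¹ by simp [mul_assoc]]
      refine ⟨h3, ?_⟩
      rw [h4, h2]
      simp [mul_assoc]
  have sur1 : ∀ h ∈ Hd D a, ∃ h', (h, h') ∈ R := by
    intro h hh
    induction hh using Subgroup.closure_induction with
    | mem q hq => exact ⟨θ q, Subgroup.subset_closure ⟨q, hq, rfl⟩⟩
    | one => exact ⟨1, one_mem R⟩
    | mul p q _ _ hp hq =>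
      obtain ⟨p', hp⟩ := hp; obtain ⟨q', hq⟩ := hq
      exact ⟨p' * q', mul_mem hp hq⟩
    | inv p _ hp => obtain ⟨p', hp⟩ := hp; exact ⟨p'⁻¹, inv_mem hp⟩
  have sur2 : ∀ h ∈ Hd D' a', ∃ g, (g, h) ∈ R := by
    intro h hh
    induction hh using Subgroup.closure_induction with
    | mem q hq =>
      obtain ⟨y, hy, rfl⟩ := hθ.surj q hq
      exact ⟨y, Subgroup.subset_closure ⟨y, hy, rfl⟩⟩
    | one => exact ⟨1, one_mem R⟩
    | mul p q _ _ hp hq =>
      obtain ⟨p', hp⟩ := hp; obtain ⟨q', hq⟩ := hq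
      exact ⟨p' * q', mul_mem hp hq⟩
    | inv p _ hp => obtain ⟨p', hp⟩ := hp; exact ⟨p'⁻¹, inv_mem hp⟩
  have surx : ∀ h ∈ stabGens D a x, ∃ h', (h, h') ∈ Rx := by
    intro h hh
    induction hh using Subgroup.closure_induction with
    | mem q hq => exact ⟨θ q, Subgroup.subset_closure ⟨q, hq.1, hq.2, rfl⟩⟩
    | one => exact ⟨1, one_mem Rx⟩
    | mul p q _ _ hp hq =>
      obtain ⟨p', hp⟩ := hp; obtain ⟨q', hq⟩ := hq
      exact ⟨p' * q', mul_mem hp hq⟩
    | inv p _ hp => obtain ⟨p', hp⟩ := hp; exact ⟨p'⁻¹, inv_mem hp⟩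
  -- the fibre over a central element
  have fib : ∀ z k, (z, k) ∈ R → (∀ y ∈ nb D a, Commute z y) → k = 1 ∨ k = a' := by
    intro z k hzk hz
    refine GenA.Tower.M23.centralizes_loc hD' hprim' h23' ha' fun g hg => ?_
    rw [GenA.Tower.M23.loc_eq hD' hprim' h23' ha'] at hg
    induction hg using Subgroup.closure_induction with
    | mem y' hy' =>
      obtain ⟨y, hy, rfl⟩ := hθ.surj y' hy'
      have h := ((P1 _ hzk).2.2 y hy).2
      simp only [mul_inv_eq_iff_eq_mul.2 (hz y hy).eq] at h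
      exact mul_inv_eq_iff_eq_mul.1 h.symm
    | one => exact Commute.one_right _
    | mul p q _ _ hp hq => exact hp.mul_right hq
    | inv p _ hp => exact hp.inv_right
  obtain ⟨c, hc, hac⟩ := exists_far_nb hD hprim h23 hx.1 hxa
  have moved : a' * φ c * a'⁻¹ ≠ φ c := by
    rw [← hφa]
    intro e
    exact hac ((hφ.comm a hxa c hc).1 (mul_inv_eq_iff_eq_mul.1 e))
  have hnotK : ((1 : G), a') ∉ Rx := fun h => by
    have := (P2 _ h c hc).2
    simp only [one_mul, inv_one, mul_one] at this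
    exact moved this.symm
  obtain ⟨l, hlen, hl, hprod⟩ := exists_six hD hprim h23 ha hx
  have has := mem_stabGens_self hD hprim h23 ha hx
  have haa : ((a, a') : G × G') ∈ Rx := by
    obtain ⟨e, he⟩ := surx a has
    rcases fib a e (hRx he) (fun y hy => hy.2.2) with h | h
    · exfalso
      have h1 := (P2 _ he c hc).2
      have ea : a * c * a⁻¹ = a * c * a := by rw [Classes.inv hD ha]
      simp only [h, one_mul, inv_one, mul_one, ea, hφ.line a hxa c hc, hφa] at h1
      exact moved (by rw [Classes.inv hD' ha']; exact h1)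
    · rwa [← h]
  have fibx : ∀ e, ((1 : G), e) ∈ Rx → e = 1 := fun e he => by
    rcases fib 1 e (hRx he) (fun y _ => Commute.one_left y) with h | h
    · exact h
    · exact absurd (h ▸ he) hnotK
  -- the fibre over the identity is trivial
  have hfib : ((1 : G), a') ∉ R := by
    intro hK
    let k : ↥R := ⟨_, hK⟩
    have hkk : k * k = 1 := Subtype.ext (Prod.ext (one_mul _) (Classes.sq hD' ha'))
    have hkc : ∀ g : ↥R, g * k = k * g := fun g => Subtype.ext (Prod.ext (by simp [k])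
      (Hd_commute (P1 _ g.2).2.1).symm.eq)
    obtain ⟨y, hy⟩ := Set.nonempty_of_ncard_ne_zero
      ((GenA.Tower.M23.ncard_one hD hprim h23 ha hx).trans_ne (by norm_num : (693 : ℕ) ≠ 0))
    obtain ⟨f₀, hf₀def⟩ : ∃ f₀ : G → G',
        f₀ = fun u => if u ∈ nb D x ∩ nb D y then φ u else 1 := ⟨_, rfl⟩
    have hf₀ : Good D a D' a' θ x y f₀ := by
      have ap : ∀ u ∈ nb D x ∩ nb D y, f₀ u = φ u := fun u hu => by rw [hf₀def]; exact if_pos hu
      refine ⟨fun u hu => ?_, fun u hu => by rw [hf₀def]; exact if_neg hu, ?_, fun q hq hu => ?_,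
        fun u hu v hv => ?_, fun u hu v hv => ?_⟩
      · rw [ap u hu]
        have hm := hφ.maps u hu.1
        refine ⟨hm, hm.1, fun e => hu.2.2.1 ?_, ?_⟩
        · rw [← hag y hy] at e
          exact hφ.inj u hu.1 y hy.2 e
        · rw [← hag y hy]
          exact (hφ.comm y hy.2 u hu.1).2 hu.2.2.2
      · rw [ap a ⟨hxa, mem_nb_symm ha hy.1⟩, hφa]
      · rw [ap q hu]
        exact hag q ⟨hq, hu.1⟩
      · rw [ap u hu, ap v hv]
        exact hφ.comm u hu.1 v hv.1
      · rw [ap u hu, ap v hv, ap _ (conj_mem_inter hD hu hv)]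
        exact hφ.line u hu.1 v hv.1
    let M : Subgroup ↥R :=
      { carrier := {p | Sym2.map (fun u => (p : G × G').1 * u * (p : G × G').1⁻¹) s(x, y) = s(x, y)}
        one_mem' := by simp
        mul_mem' := fun {p q} hp hq => by
          simp only [Set.mem_setOf_eq] at hp hq ⊢
          conv_rhs => rw [← hp, ← hq, Sym2.map_map]
          exact Sym2.map_congr fun u _ => by
            simp [mul_assoc]
        inv_mem' := fun {p} hp => by
          simp only [Set.mem_setOf_eq] at hp ⊢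
          conv_lhs => rw [← hp, Sym2.map_map]
          refine (Sym2.map_congr (g := fun u => u) fun u _ => ?_).trans ?_
          · simp [mul_assoc]
          · simp }
    have memM : ∀ p : ↥R, p ∈ M ↔
        ((p : G × G').1 * x * (p : G × G').1⁻¹ = x ∧ (p : G × G').1 * y * (p : G × G').1⁻¹ = y) ∨
        ((p : G × G').1 * x * (p : G × G').1⁻¹ = y ∧ (p : G × G').1 * y * (p : G × G').1⁻¹ = x) := by
      intro p
      show Sym2.map _ s(x, y) = s(x, y) ↔ _
      rw [Sym2.map_mk, Sym2.eq_iff]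
    have two : ∀ p : ↥R, p ∈ M →
        act (p : G × G') f₀ = f₀ ∨ act (p : G × G') f₀ = act (1, a') f₀ := by
      intro p hp
      have hT := hf₀.transport hD hD' (hsym _ p.2) hx hy.1
      rcases (memM p).1 hp with ⟨e1, e2⟩ | ⟨e1, e2⟩ <;> rw [e1, e2] at hT
      · exact Good.unique hD hD' hprim h23 hprim' h23' ha ha' hθ hx hy hf₀ hT
      · exact Good.unique hD hD' hprim h23 hprim' h23' ha ha' hθ hx hy hf₀ hT.symm
    have hne : act (1, a') f₀ ≠ f₀ :=
      Good.act_ne hD hD' hprim h23 hprim' h23' ha ha' hθ hx hy hf₀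
    have hkf : act (1, a') (act (1, a') f₀) = f₀ := by
      rw [← act_mul, Prod.mk_mul_mk, one_mul, Classes.sq hD' ha', Prod.mk_one_one, act_one]
    have hpk : ∀ p : ↥R, act (p : G × G') (act (1, a') f₀) = act (1, a') (act (p : G × G') f₀) := by
      intro p
      rw [← act_mul, ← act_mul]
      exact congrArg (fun z : ↥R => act (z : G × G') f₀) (hkc p)
    let χ : ↥R → ℤˣ := fun p => if act (p : G × G') f₀ = f₀ then 1 else -1
    have hχmul : ∀ p ∈ M, ∀ q ∈ M, χ (p * q) = χ p * χ q := by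
      intro p hp q hq
      have e : act ((p * q : ↥R) : G × G') f₀ = act (p : G × G') (act (q : G × G') f₀) :=
        act_mul _ _ _
      rcases two q hq with h2 | h2 <;> rcases two p hp with h1 | h1
      · rw [h2, h1] at e
        simp only [χ, e, h1, h2, if_true, mul_one]
      · rw [h2, h1] at e
        simp only [χ, e, h1, h2, hne, if_true, if_false, mul_one]
      · rw [h2, hpk, h1] at e
        simp only [χ, e, h1, h2, hne, if_true, if_false, one_mul]
      · rw [h2, hpk, h1, hkf] at e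
        simp only [χ, e, h1, h2, hne, if_true, if_false]
        decide
    let π : ↥M →* ℤˣ := MonoidHom.mk' (fun p => χ p) fun p q => hχmul _ p.2 _ q.2
    have hidx : M.index = 1216215 := by
      rw [← card_edges hD hprim h23 ha, Subgroup.index]
      refine Nat.card_congr (Equiv.ofBijective (Quotient.lift (fun p : ↥R =>
        (⟨Sym2.map (fun u => (p : G × G').1 * u * (p : G × G').1⁻¹) s(x, y), ?_⟩ :
          (nbGraph D a).edgeSet)) ?_) ⟨?_, ?_⟩)
      · rw [Sym2.map_mk, SimpleGraph.mem_edgeSet]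
        exact ⟨((P1 _ p.2).2.2 x hx).1, ((P1 _ p.2).2.2 y hy.1).1, conj_nb hD _ hy.2⟩
      · intro p q h
        have h2 : (p⁻¹ * q : ↥R) ∈ M := QuotientGroup.leftRel_apply.1 h
        refine Subtype.ext ?_
        show Sym2.map _ s(x, y) = Sym2.map _ s(x, y)
        conv_lhs => rw [← (show Sym2.map _ s(x, y) = s(x, y) from h2), Sym2.map_map]
        exact Sym2.map_congr fun u _ => by simp [mul_assoc]
      · intro p q
        induction p using Quotient.inductionOn with
        | h g =>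
          induction q using Quotient.inductionOn with
          | h g' =>
            intro h
            have h' : Sym2.map (fun u => (g : G × G').1 * u * (g : G × G').1⁻¹) s(x, y) =
                Sym2.map (fun u => (g' : G × G').1 * u * (g' : G × G').1⁻¹) s(x, y) :=
              congrArg Subtype.val h
            refine Quotient.sound (QuotientGroup.leftRel_apply.2 ?_)
            show Sym2.map _ s(x, y) = s(x, y)
            rw [Sym2.map_mk, Sym2.map_mk] at h'
            rw [Sym2.map_mk]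
            have e := congrArg
              (Sym2.map fun u => (g : G × G').1⁻¹ * u * (g : G × G').1) h'
            rw [Sym2.map_mk, Sym2.map_mk] at e
            simpa [mul_assoc] using e.symm
      · rintro ⟨e, he⟩
        induction e using Sym2.ind with
        | _ u w =>
          obtain ⟨hu, hw, huw⟩ := he
          obtain ⟨h, hh, e1, e2⟩ := trans_edge hD hprim h23 ha hx hy hu ⟨hw, huw⟩
          obtain ⟨h', hh'⟩ := sur1 h hh
          exact ⟨Quotient.mk _ ⟨_, hh'⟩, Subtype.ext (by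
            show Sym2.map _ s(x, y) = s(u, w)
            rw [Sym2.map_mk]
            simp [e1, e2])⟩
    haveI : M.FiniteIndex := ⟨by omega⟩
    obtain ⟨τ, hτ⟩ : ∃ τ : ↥R →* ℤˣ, τ k = -1 := by
      refine ⟨MonoidHom.transfer π, ?_⟩
      rw [MonoidHom.transfer_eq_pow π k fun n g₀ _ => by
        rw [mul_assoc, ← (Commute.pow_right (hkc g₀ : Commute g₀ k) n).eq, ← mul_assoc,
          inv_mul_cancel, one_mul]]
      show χ (k ^ M.index) = -1
      rw [hidx, show 1216215 = 2 * 608107 + 1 by norm_num, pow_succ, pow_mul, pow_two, hkk, one_pow,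
        one_mul]
      exact if_neg hne
    -- constant on the generators
    let gn : ∀ q ∈ nb D a, ↥R := fun q hq => ⟨(q, θ q), Subgroup.subset_closure ⟨q, hq, rfl⟩⟩
    have hconst : ∀ q (hq : q ∈ nb D a), τ (gn q hq) = τ (gn x hx) := by
      intro q hq
      obtain ⟨g, hg, hgq⟩ := trans_nb hD hprim h23 ha hx hq
      obtain ⟨g', hg'⟩ := sur1 g hg
      have e : gn q hq = ⟨_, hg'⟩ * gn x hx * (⟨_, hg'⟩ : ↥R)⁻¹ := Subtype.ext (Prod.ext hgq.symm
        (by
          show θ q = g' * θ x * g'⁻¹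
          rw [← hgq]
          exact ((P1 _ hg').2.2 x hx).2))
      rw [e, map_mul, map_mul, map_inv, mul_right_comm, mul_inv_cancel, one_mul]
    have hε : τ (gn x hx) = -1 := by
      refine (Int.units_eq_one_or _).resolve_left fun h1 => ?_
      have htriv : ∀ r : G × G', ∀ hr : r ∈ R, τ ⟨r, hr⟩ = 1 := by
        intro r hr
        induction hr using Subgroup.closure_induction with
        | mem r hr =>
          obtain ⟨q, hq, rfl⟩ := hr
          exact (hconst q hq).trans h1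
        | one => exact map_one τ
        | mul r s hr hs e1 e2 =>
          show τ (⟨r, hr⟩ * ⟨s, hs⟩) = 1
          rw [map_mul, e1, e2, mul_one]
        | inv r hr e1 =>
          show τ (⟨r, hr⟩⁻¹) = 1
          rw [map_inv, e1, inv_one]
      exact absurd (hτ.symm.trans (htriv _ hK)) (by decide)
    have hlist : ∀ m : List G, (∀ q ∈ m, q ∈ nb D a ∧ Commute q x) → ∃ p : ↥R,
        (p : G × G').1 = m.prod ∧ (p : G × G') ∈ Rx ∧ τ p = (-1) ^ m.length := by
      intro m hm
      induction m with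
      | nil => exact ⟨1, rfl, one_mem Rx, by simp⟩
      | cons q m ih =>
        obtain ⟨p, h1, h2, h3⟩ := ih fun q' hq' => hm q' (List.mem_cons_of_mem _ hq')
        obtain ⟨hq, hqx⟩ := hm q (by simp)
        refine ⟨gn q hq * p, by simp [gn, h1],
          mul_mem (Subgroup.subset_closure ⟨q, hq, hqx, rfl⟩) h2, ?_⟩
        rw [map_mul, hconst q hq, hε, h3, List.length_cons, pow_succ']
    obtain ⟨p6, h61, h62, h63⟩ := hlist l hl
    rw [hprod] at h61
    rw [hlen] at h63
    have h6 : τ p6 = 1 := h63.trans (by decide)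
    -- the derived subgroup reaches the neighbour
    let Rx' : Subgroup ↥R := Rx.subgroupOf R
    let π₁ : ↥Rx' →* Sd D a := MonoidHom.mk' (fun p => pr D a ((p : ↥R) : G × G').1) fun p q =>
      pr_mul (P1 _ (p : ↥R).2).1 (P1 _ (q : ↥R).2).1
    have hcomm : ∀ p ∈ commutator ↥Rx', τ (p : ↥R) = 1 := fun p hp =>
      Abelianization.commutator_subset_ker (τ.comp Rx'.subtype) hp
    obtain ⟨p, hp, hpx⟩ : pr D a x ∈ (commutator ↥Rx').map π₁ := by
      have hs := GenA.Tower.M23.sep hD hprim h23 ha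
      have hE := GenA.Tower.M23.grp hD hprim h23 ha
      have hEp := GenA.Tower.M23.prim hD hprim h23 ha
      have hEt := GenA.Tower.M23.t22 hD hprim h23 ha
      have hle : Hd (Dq D a) (pr D a x) ≤ π₁.range := by
        refine (Subgroup.closure_le _).2 ?_
        intro q hq
        change q ∈ nb (Dq D a) (pr D a x) at hq
        rw [← GenA.Tower.image_one hD hs hx] at hq
        obtain ⟨m, hm, rfl⟩ := hq
        have hmR : ((m, θ m) : G × G') ∈ Rx :=
          Subgroup.subset_closure ⟨m, hm.1, hm.2.2.2.symm, rfl⟩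
        exact ⟨⟨⟨_, hRx hmR⟩, Subgroup.mem_subgroupOf.2 hmR⟩, rfl⟩
      have h1 := M22.mem_commutator_Hd hE hEp hEt (pr_mem hx)
      have h2 : (commutator ↥(Hd (Dq D a) (pr D a x))).map (Hd (Dq D a) (pr D a x)).subtype ≤
          (commutator ↥Rx').map π₁ := by
        rw [commutator_def, commutator_def, Subgroup.map_commutator, Subgroup.map_commutator,
          ← MonoidHom.range_eq_map, ← MonoidHom.range_eq_map, Subgroup.range_subtype]
        exact Subgroup.commutator_mono hle hle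
      exact h2 (Subgroup.mem_map_of_mem _ h1)
    have hpR : ((p : ↥R) : G × G') ∈ Rx := Subgroup.mem_subgroupOf.1 p.2
    have hp1 := (P1 _ (p : ↥R).2).1
    have hz : pr D a (x⁻¹ * ((p : ↥R) : G × G').1) = 1 := by
      rw [pr_mul (inv_mem (mem_Hd hx)) hp1, pr_inv (mem_Hd hx)]
      show (pr D a x)⁻¹ * π₁ p = 1
      rw [hpx, inv_mul_cancel]
    have hgx : ((gn x hx : ↥R) : G × G') ∈ Rx :=
      Subgroup.subset_closure ⟨x, hx, Commute.refl x, rfl⟩
    have pin : ∀ r : ↥R, (r : G × G') ∈ Rx → (r : G × G').1 = ((p : ↥R) : G × G').1 →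
        r = (p : ↥R) := by
      intro r hr e
      have h : ((r : G × G'))⁻¹ * ((p : ↥R) : G × G') ∈ Rx := mul_mem (inv_mem hr) hpR
      rw [show ((r : G × G'))⁻¹ * ((p : ↥R) : G × G') =
        ((1 : G), (r : G × G').2⁻¹ * ((p : ↥R) : G × G').2) from
          Prod.ext (by simp [e]) rfl] at h
      exact Subtype.ext (Prod.ext e (inv_mul_eq_one.1 (fibx _ h)))
    rcases pr_one_cases hD hprim h23 ha (mul_mem (inv_mem (mem_Hd hx)) hp1) hz with e | e
    · have h := pin (gn x hx) hgx (inv_mul_eq_one.1 e)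
      have h' := hcomm p hp
      rw [← h, hε] at h'
      exact absurd h' (by decide)
    · have h := pin (gn x hx * p6) (mul_mem hgx h62) (by
        show x * (p6 : G × G').1 = _
        rw [h61, ← e, mul_inv_cancel_left])
      have h' := hcomm p hp
      rw [← h, map_mul, hε, h6] at h'
      exact absurd h' (by decide)
  -- the isomorphism
  let f1 : ↥R →* ↥(Hd D a) :=
    ((MonoidHom.fst G G').comp R.subtype).codRestrict (Hd D a) fun p => (P1 _ p.2).1
  let f2 : ↥R →* ↥(Hd D' a') :=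
    ((MonoidHom.snd G G').comp R.subtype).codRestrict (Hd D' a') fun p => (P1 _ p.2).2.1
  have hb1 : Function.Bijective f1 := by
    refine ⟨(injective_iff_map_eq_one f1).2 ?_, fun h => ?_⟩
    · rintro ⟨⟨z, k⟩, hp⟩ he
      obtain rfl : z = 1 := congrArg Subtype.val he
      rcases fib 1 _ hp (fun y _ => Commute.one_left y) with h | h
      · exact Subtype.ext (Prod.ext rfl h)
      · exact absurd (h ▸ hp) hfib
    · obtain ⟨h', hh⟩ := sur1 h h.2
      exact ⟨⟨_, hh⟩, Subtype.ext rfl⟩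
  have hb2 : Function.Bijective f2 := by
    refine Function.Surjective.bijective_of_nat_card_le (fun h => ?_) ?_
    · obtain ⟨h', hh⟩ := sur2 h h.2
      exact ⟨⟨_, hh⟩, Subtype.ext rfl⟩
    · rw [Nat.card_eq_of_bijective _ hb1, GenA.Tower.M23.card_loc hD hprim h23 ha,
        GenA.Tower.M23.card_loc hD' hprim' h23' ha']
  let ψ : ↥(Hd D a) ≃* ↥(Hd D' a') :=
    (MulEquiv.ofBijective f1 hb1).symm.trans (MulEquiv.ofBijective f2 hb2)
  have hψ : ∀ (h : ↥(Hd D a)) (k : G'), ((h : G), k) ∈ R → (ψ h : G') = k := by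
    intro h k hk
    have : (MulEquiv.ofBijective f1 hb1).symm h = ⟨_, hk⟩ :=
      (MulEquiv.symm_apply_eq _).2 (Subtype.ext rfl)
    show ((MulEquiv.ofBijective f2 hb2) ((MulEquiv.ofBijective f1 hb1).symm h) : G') = k
    rw [this]; rfl
  refine ⟨ψ, fun q hq => hψ _ _ (Subgroup.subset_closure ⟨q, hq, rfl⟩), fun h => ?_,
    fun h hh u hu => ?_⟩
  · obtain ⟨k, hk⟩ := sur1 h h.2
    rw [hψ h k hk]
    exact hsym _ hk
  · obtain ⟨k, hk⟩ := surx _ (mem_stabGens hD hprim h23 ha hx h.2 hh)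
    rw [hψ h k (hRx hk)]
    exact (P2 _ hk u hu).2

end Cfsg.Agent.ThreeTransp.M23Iso
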