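import Cfsg.Agent.Lib.ThreeTransp.M22Iso.Main

/-!
Coordinates for the common neighbourhood of two commuting members, the determinant of a similarity,
and a lemma on common neighbourhoods in groups of type M(22).
-/

set_option autoImplicit false
set_option linter.unusedSectionVars false

namespace Cfsg.Agent.ThreeTransp.M23Iso

open Matrix
open Cfsg.Agent.Classical.Unitary
open Cfsg.Agent.Forms
open Cfsg.Agent.GroupStructure3.ThreeTransUnitary (tr three_class rank_one_iff)
open Cfsg.Agent.InvChar.Coset (FF)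
open Cfsg.Agent.ThreeTransp
open Cfsg.Agent.ThreeTransp.M22Iso
open Cfsg.Agent.ThreeTransp.Factor (nb Hd Sd Dq Sep mem_Hd Hd_commute)
open Cfsg.Agent.ThreeTransp.Cover (mem_nb_symm conj_nb)
open Cfsg.Agent.GenA.Tower (pr pr_mem pr_mul pr_comm pr_nb pr_inj image_nb_pr)

local notation "H" => Cfsg.hermForm 6 FF 2

universe u

section Unique

variable {G : Type u} [Group G] [Finite G] {D : Set G}
  (hD : Cfsg.IsThreeTranspositionGroup D) (hprim : Cfsg.IsPrimitiveUnderConj D)
  (h22 : Cfsg.IsOfTypeM22 G D)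
include hD hprim h22

/-- The common neighbourhood of a non-commuting pair and one of their common neighbours sees no
further neighbour of the first member. -/
theorem not_shared {a w x z : G} (ha : a ∈ D) (hw : w ∈ D) (haw : ¬ Commute a w)
    (hx : x ∈ nb D a ∩ nb D w) (hz : z ∈ nb D a) (hxz : ¬ Commute x z) :
    ∃ t ∈ nb D a ∩ nb D x ∩ nb D w, ¬ Commute t z := by
  by_contra! hall
  obtain ⟨C, hC⟩ := exists_std hD hprim h22 ha hw haw
  have h0 : Pt (pl 0 1 1) := pl_pt (by decide) one_ne_zero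
  have hA : C.f (pl 0 1 1) ∈ nb D a ∩ nb D w :=
    (hC _ h0).2 (Or.inl (wt_pl 0 1 (by decide) 1 one_ne_zero))
  obtain ⟨s, hs, hsx⟩ := trans_inter hD hprim h22 ha hw haw hx hA
  obtain ⟨hsa, hsw⟩ : Commute s a ∧ Commute s w := by
    clear hsx
    induction hs using Subgroup.closure_induction with
    | mem y hy => exact ⟨hy.1.2.2.symm, hy.2.2.2.symm⟩
    | one => exact ⟨Commute.one_left _, Commute.one_left _⟩
    | mul p q _ _ hp hq => exact ⟨hp.1.mul_left hq.1, hp.2.mul_left hq.2⟩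
    | inv p _ hp => exact ⟨hp.1.inv_left, hp.2.inv_left⟩
  obtain ⟨ζ, hζ, hζe⟩ := C.cover _ (M22.Chart.conj_mem_nb hD hsa hz)
  have hζ0 : ζ 0 + ζ 1 ≠ 0 := fun h => hxz (by
    have h1 := (C.comm_iff ζ _ hζ h0).2 (by rw [H_pl, one_pow, one_mul]; exact h)
    rw [hζe, ← hsx] at h1
    exact ((Basic.commute_conj (g := s)).1 h1).symm)
  have key : ∀ v, Pt v → Std v → H v (pl 0 1 1) = 0 → (¬ ∃ c : FF, pl 0 1 1 = c • v) →
      H v ζ = 0 := by
    intro v hv hstd hperp hne
    have hvS := (hC v hv).2 hstd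
    have hvn : C.f v ∈ nb D (C.f (pl 0 1 1)) :=
      ⟨hvS.1.1, fun e => hne ((C.eq_iff v _ hv h0).1 e), ((C.comm_iff v _ hv h0).2 hperp).symm⟩
    have hs' : Commute s⁻¹ a ∧ Commute s⁻¹ w := ⟨hsa.inv_left, hsw.inv_left⟩
    have ht : s⁻¹ * C.f v * (s⁻¹)⁻¹ ∈ nb D a ∩ nb D x ∩ nb D w := by
      refine ⟨⟨M22.Chart.conj_mem_nb hD hs'.1 hvS.1, ?_⟩, M22.Chart.conj_mem_nb hD hs'.2 hvS.2⟩
      have := conj_nb hD s⁻¹ hvn
      rwa [show s⁻¹ * C.f (pl 0 1 1) * (s⁻¹)⁻¹ = x by rw [← hsx]; group] at this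
    have h1 := (Basic.commute_conj (g := s)).2 (hall _ ht)
    rw [show s * (s⁻¹ * C.f v * (s⁻¹)⁻¹) * s⁻¹ = C.f v by group, ← hζe] at h1
    exact (C.comm_iff v ζ hv hζ).1 h1
  have hplane : ∀ i j : Fin 6, i ≠ j → 2 ≤ (i : ℕ) → 2 ≤ (j : ℕ) → ζ i = 0 ∧ ζ j = 0 := by
    intro i j hij hi hj
    have one : ∀ l : FF, l ≠ 0 → ζ i + l ^ 2 * ζ j = 0 := by
      intro l hl
      have hw' := pl_wpt hij hi hj hl
      rw [← H_pl]
      refine H_comm_zero.1 (key _ hw'.1 (Or.inl (wt_pl i j hij l hl))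
        (by rw [H_pl, hw'.2.1, hw'.2.2, mul_zero, add_zero]) ?_)
      rintro ⟨c, hc⟩
      have := congrFun hc 0
      rw [Pi.smul_apply, hw'.2.1, smul_zero] at this
      exact one_ne_zero (α := FF) (by rw [← this]; decide)
    have e1 := one 1 one_ne_zero
    rw [one_pow, one_mul] at e1
    exact pair_cases _ _ e1 (one FF.w (by decide))
  obtain ⟨z2, z3⟩ := hplane 2 3 (by decide) (by decide) (by decide)
  obtain ⟨z4, z5⟩ := hplane 4 5 (by decide) (by decide) (by decide)
  have h6 := key (fun _ => 1) (by decide) (by decide) (by decide) (by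
    rintro ⟨c, hc⟩
    revert hc
    revert c
    decide)
  rw [H_comm_zero, Cfsg.hermForm, Fin.sum_univ_six] at h6
  simp only [one_pow, mul_one, z2, z3, z4, z5, add_zero] at h6
  exact hζ0 h6

end Unique

/-- Coordinates for the common neighbourhood of two commuting members. -/
structure BCoord {G : Type u} [Group G] (D : Set G) (a x : G) where
  f : Vec → G
  mem : ∀ v, Pt v → f v ∈ nb D a ∩ nb D x
  cover : ∀ y ∈ nb D a ∩ nb D x, ∃ v, Pt v ∧ f v = y
  eq_iff : ∀ v w, Pt v → Pt w → (f v = f w ↔ ∃ c : FF, w = c • v)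
  comm_iff : ∀ v w, Pt v → Pt w → (Commute (f v) (f w) ↔ H v w = 0)
  line : ∀ u v, Pt u → Pt v → f u * f v * f u = f (τ u v)

namespace BCoord

variable {G : Type u} [Group G] {D : Set G} {a x : G}

/-- The roles exchanged. -/
def symm (g : BCoord D a x) : BCoord D x a where
  f := g.f
  mem v hv := ⟨(g.mem v hv).2, (g.mem v hv).1⟩
  cover y hy := g.cover y ⟨hy.2, hy.1⟩
  eq_iff := g.eq_iff
  comm_iff := g.comm_iff
  line := g.line

theorem symm_f (g : BCoord D a x) : g.symm.f = g.f := rfl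

/-- Coordinates changed by a similarity. -/
def comp (g : BCoord D a x) (S : Sim) : BCoord D a x where
  f v := g.f (S.T v)
  mem _ hv := g.mem _ (S.pt hv)
  cover y hy := by
    obtain ⟨v, hv, rfl⟩ := g.cover y hy
    refine ⟨S.T.symm v, S.pt_iff.1 ?_, ?_⟩
    · rwa [Equiv.apply_symm_apply]
    · rw [Equiv.apply_symm_apply]
  eq_iff v w hv hw := (g.eq_iff _ _ (S.pt hv) (S.pt hw)).trans S.prop_iff
  comm_iff v w hv hw := (g.comm_iff _ _ (S.pt hv) (S.pt hw)).trans S.form_zero
  line u v hu hv := by rw [g.line _ _ (S.pt hu) (S.pt hv), S.tau]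

theorem comp_f (g : BCoord D a x) (S : Sim) (v : Vec) : (g.comp S).f v = g.f (S.T v) := rfl

theorem smul_eq (g : BCoord D a x) {v : Vec} (hv : Pt v) {c : FF} (hc : c ≠ 0) :
    g.f (c • v) = g.f v :=
  ((g.eq_iff v (c • v) hv (hv.smul hc)).2 ⟨c, rfl⟩).symm

variable [Finite G] (hD : Cfsg.IsThreeTranspositionGroup D) (hs : Sep D a) (hx : x ∈ nb D a)
include hD hs hx

/-- Seen in the local quotient. -/
noncomputable def toCoord (g : BCoord D a x) : Coord (Dq D a) (pr D a x) where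
  f v := pr D a (g.f v)
  mem v hv := (pr_nb hD hs hx (g.mem v hv).1).2 (g.mem v hv).2
  cover q hq := by
    rw [← GenA.Tower.image_one hD hs hx] at hq
    obtain ⟨y, hy, rfl⟩ := hq
    obtain ⟨v, hv, rfl⟩ := g.cover y hy
    exact ⟨v, hv, rfl⟩
  eq_iff v w hv hw :=
    ⟨fun h => (g.eq_iff v w hv hw).1 (pr_inj hs (g.mem v hv).1 (g.mem w hw).1 h),
      fun h => by rw [(g.eq_iff v w hv hw).2 h]⟩
  comm_iff v w hv hw := (pr_comm hD (g.mem v hv).1 (g.mem w hw).1).trans (g.comm_iff v w hv hw)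
  line u v hu hv := by
    have mu := mem_Hd (g.mem u hu).1
    rw [← g.line u v hu hv, pr_mul (mul_mem mu (mem_Hd (g.mem v hv).1)) mu,
      pr_mul mu (mem_Hd (g.mem v hv).1)]

theorem toCoord_f (g : BCoord D a x) (v : Vec) :
    (g.toCoord hD hs hx).f v = pr D a (g.f v) := rfl

/-- Lifted from the local quotient. -/
theorem ofCoord (C : Coord (Dq D a) (pr D a x)) :
    ∃ g : BCoord D a x, ∀ v, Pt v → pr D a (g.f v) = C.f v := by
  have h0 : ∀ v : Vec, ∃ y : G, Pt v → y ∈ nb D a ∩ nb D x ∧ pr D a y = C.f v := by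
    intro v
    by_cases hv : Pt v
    · have h := C.mem v hv
      rw [← GenA.Tower.image_one hD hs hx] at h
      obtain ⟨y, hy, e⟩ := h
      exact ⟨y, fun _ => ⟨hy, e⟩⟩
    · exact ⟨1, fun h => absurd h hv⟩
  choose f hf using h0
  refine ⟨⟨f, fun v hv => (hf v hv).1, ?_, ?_, ?_, ?_⟩, fun v hv => (hf v hv).2⟩
  · intro y hy
    obtain ⟨v, hv, e⟩ := C.cover _ ((pr_nb hD hs hx hy.1).2 hy.2)
    exact ⟨v, hv, pr_inj hs (hf v hv).1.1 hy.1 ((hf v hv).2.trans e)⟩
  · intro v w hv hw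
    rw [← C.eq_iff v w hv hw, ← (hf v hv).2, ← (hf w hw).2]
    exact ⟨fun h => by rw [h], pr_inj hs (hf v hv).1.1 (hf w hw).1.1⟩
  · intro v w hv hw
    rw [← C.comm_iff v w hv hw, ← (hf v hv).2, ← (hf w hw).2,
      pr_comm hD (hf v hv).1.1 (hf w hw).1.1]
  · intro u v hu hv
    have hτ := hv.tau hu.2
    have mu := mem_Hd (hf u hu).1.1
    have mv := mem_Hd (hf v hv).1.1
    refine pr_inj hs ?_ (hf _ hτ).1.1 ?_
    · exact conj_mem_nb2 hD (hf u hu).1.1 (hf v hv).1.1
    · rw [pr_mul (mul_mem mu mv) mu, pr_mul mu mv, (hf u hu).2, (hf v hv).2, (hf _ hτ).2,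
        C.line u v hu hv]

end BCoord

/-- An element of the group generated by the common neighbours fixes both members. -/
theorem closure_commute {G : Type u} [Group G] {D : Set G} {a x h : G}
    (hh : h ∈ Subgroup.closure (nb D a ∩ nb D x)) : Commute h a ∧ Commute h x := by
  induction hh using Subgroup.closure_induction with
  | mem y hy => exact ⟨hy.1.2.2.symm, hy.2.2.2.symm⟩
  | one => exact ⟨Commute.one_left _, Commute.one_left _⟩
  | mul p q _ _ hp hq => exact ⟨hp.1.mul_left hq.1, hp.2.mul_left hq.2⟩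
  | inv p _ hp => exact ⟨hp.1.inv_left, hp.2.inv_left⟩

/-- The special unitary group is induced by the group generated by the common neighbours. -/
theorem BCoord.realize {G : Type u} [Group G] [Finite G] {D : Set G} {a x : G}
    (hD : Cfsg.IsThreeTranspositionGroup D) (g : BCoord D a x) (k : Cfsg.SU 6 FF 2) :
    ∃ h ∈ Subgroup.closure (nb D a ∩ nb D x), ∀ v, Pt v →
      h * g.f v * h⁻¹ = g.f (mat k *ᵥ v) := by
  have hk : k ∈ Subgroup.closure {t : Cfsg.SU 6 FF 2 |
      (((t : Matrix.SpecialLinearGroup (Fin 6) FF) : Matrix (Fin 6) (Fin 6) FF) - 1).rank = 1} := by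
    rw [(three_class hF4 (by norm_num : 4 ≤ 6)).2.2]
    exact Subgroup.mem_top _
  induction hk using Subgroup.closure_induction with
  | mem t ht =>
    obtain ⟨w, hw, hw0, rfl⟩ := (rank_one_iff hF4 t).1 ht
    refine ⟨g.f w, Subgroup.subset_closure (g.mem w ⟨hw0, hw⟩), fun v hv => ?_⟩
    rw [mat_tr hw, Classes.inv hD (g.mem w ⟨hw0, hw⟩).1.1, g.line w v ⟨hw0, hw⟩ hv]
  | one => exact ⟨1, one_mem _, fun v _ => by rw [mat_one, one_mulVec, one_mul, inv_one, mul_one]⟩
  | mul p q _ _ hp hq =>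
    obtain ⟨h, hh, he⟩ := hp
    obtain ⟨k, hk, hke⟩ := hq
    refine ⟨h * k, mul_mem hh hk, fun v hv => ?_⟩
    rw [mul_mulVec, ← he _ (hv.mat q), ← hke v hv]
    group
  | inv p _ hp =>
    obtain ⟨h, hh, he⟩ := hp
    refine ⟨h⁻¹, inv_mem hh, fun v hv => ?_⟩
    have e := he _ (hv.mat p⁻¹)
    rw [← mul_mulVec, mul_inv_cancel, mat_one, one_mulVec] at e
    rw [← e]
    group

/-- The matrix of a similarity. -/
def simMat (S : Sim) : Matrix (Fin 6) (Fin 6) FF := Matrix.of fun i j => S.T (Pi.single j 1) i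

theorem simMat_apply (S : Sim) (v : Vec) : S.T v = simMat S *ᵥ (fun i => S.σ (v i)) := by
  let f : Vec →+ Vec := AddMonoidHom.mk' S.T S.add
  have hv : v = ∑ j, v j • (Pi.single j 1 : Vec) := by
    rw [show (∑ j, v j • (Pi.single j 1 : Vec)) = ∑ j, Pi.single j (v j) from
      Finset.sum_congr rfl fun j _ => by rw [← Pi.single_smul, smul_eq_mul, mul_one],
      Finset.univ_sum_single]
  conv_lhs => rw [hv, show S.T _ = f _ from rfl, map_sum]
  funext i
  rw [Finset.sum_apply]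
  simp only [f, AddMonoidHom.mk'_apply, S.smul, Pi.smul_apply, smul_eq_mul, Matrix.mulVec,
    dotProduct, simMat, Matrix.of_apply]
  exact Finset.sum_congr rfl fun j _ => mul_comm _ _

theorem simMat_form (S : Sim) (u v : Vec) : H (simMat S *ᵥ u) (simMat S *ᵥ v) = H u v := by
  have key : ∀ z : Vec, simMat S *ᵥ z = S.T fun i => S.σ.symm (z i) := fun z => by
    rw [simMat_apply]; simp
  rw [key u, key v, S.form]
  simp only [Cfsg.hermForm, map_sum, map_mul, map_pow, RingEquiv.apply_symm_apply]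

theorem simMat_inj (S : Sim) {u v : Vec} (h : simMat S *ᵥ u = simMat S *ᵥ v) : u = v := by
  have key : ∀ z : Vec, simMat S *ᵥ z = S.T fun i => S.σ.symm (z i) := fun z => by
    rw [simMat_apply]; simp
  rw [key u, key v] at h
  funext i
  exact S.σ.symm.injective (congrFun (S.T.injective h) i)

theorem simMat_det (S : Sim) : (simMat S).det ≠ 0 :=
  ((Matrix.isUnit_iff_isUnit_det _).1
    (Matrix.mulVec_injective_iff_isUnit.1 fun _ _ h => simMat_inj S h)).ne_zero

/-- The field automorphism coordinate by coordinate. -/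
noncomputable def frobSim : Sim := mon 1 (fun _ => 1) (fun _ => one_ne_zero) frob

theorem frobSim_apply (v : Vec) (i : Fin 6) : frobSim.T v i = v i ^ 2 := by
  have := mon_apply 1 (fun _ => (1 : FF)) (fun _ => one_ne_zero) frob v i
  simpa [frobSim, frob_apply] using this

theorem frobSim_det (S : Sim) :
    (simMat (S.trans frobSim)).det = (simMat S).det ^ 2 := by
  have e : simMat (S.trans frobSim) = frob.toRingHom.mapMatrix (simMat S) := by
    funext i j
    show (S.trans frobSim).T (Pi.single j 1) i = frob (S.T (Pi.single j 1) i)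
    rw [Sim.trans_apply, frobSim_apply, frob_apply]
  rw [e, ← RingHom.map_det]
  exact frob_apply _

theorem std_map (σ : FF ≃+* FF) (v : Vec) : Std (fun i => σ (v i)) ↔ Std v := by
  have hw : wt (fun i => σ (v i)) = wt v := by simp [wt]
  rw [Std, Std, hw, ← map_prod, map_eq_one_iff σ σ.injective]

theorem pt_map (σ : FF ≃+* FF) {v : Vec} (hv : Pt v) : Pt (fun i => σ (v i)) := by
  refine ⟨fun e => hv.1 (funext fun i => ?_), ?_⟩
  · exact (RingEquiv.map_eq_zero_iff σ).1 (congrFun e i)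
  · rw [Cfsg.hermForm]
    simp only [← map_pow, ← map_mul, ← map_sum]
    rw [show (∑ i, v i * v i ^ 2) = H v v from rfl, hv.2, map_zero]

theorem std_frob {v : Vec} : Std (frobSim.T v) ↔ Std v := by
  rw [show frobSim.T v = fun i => frob (v i) from funext fun i => by
    rw [frobSim_apply, frob_apply]]
  exact std_map frob v

/-- A similarity of determinant one is induced up to a field automorphism. -/
theorem exists_su (S : Sim) (h : (simMat S).det = 1) :
    ∃ k : Cfsg.SU 6 FF 2, ∀ v, S.T v = mat k *ᵥ fun i => S.σ (v i) :=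
  ⟨⟨⟨simMat S, h⟩, fun u v => simMat_form S u v⟩, fun v => simMat_apply S v⟩

/-- Two similarities of equal determinant differ by the special unitary group. -/
theorem exists_align (S S' : Sim) (h : (simMat S).det = (simMat S').det) :
    ∃ k : Cfsg.SU 6 FF 2, ∀ v, ∃ u, (Pt v → Pt u) ∧ (Std u ↔ Std v) ∧
      S.T v = mat k *ᵥ S'.T u := by
  have hu : IsUnit (simMat S').det := (simMat_det S').isUnit
  obtain ⟨K, hK⟩ : ∃ K, K = simMat S * (simMat S')⁻¹ := ⟨_, rfl⟩
  have hd : K.det = 1 := by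
    rw [hK, Matrix.det_mul, Matrix.det_nonsing_inv, h, Ring.mul_inverse_cancel _ hu]
  have hy : ∀ y, K *ᵥ (simMat S' *ᵥ y) = simMat S *ᵥ y := fun y => by
    rw [hK, Matrix.mulVec_mulVec, Matrix.mul_assoc, Matrix.nonsing_inv_mul _ hu, Matrix.mul_one]
  have hf : ∀ u v : Vec, H (K *ᵥ u) (K *ᵥ v) = H u v := by
    intro u v
    have e : ∀ y : Vec, simMat S' *ᵥ ((simMat S')⁻¹ *ᵥ y) = y := fun y => by
      rw [Matrix.mulVec_mulVec, Matrix.mul_nonsing_inv _ hu, Matrix.one_mulVec]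
    conv_rhs => rw [← e u, ← e v, simMat_form]
    conv_lhs => rw [← e u, ← e v, hy, hy, simMat_form]
  refine ⟨⟨⟨K, hd⟩, hf⟩, fun v => ⟨fun i => S'.σ.symm (S.σ (v i)), fun hv => ?_, ?_, ?_⟩⟩
  · exact pt_map (S.σ.trans S'.σ.symm) hv
  · exact std_map (S.σ.trans S'.σ.symm) v
  · show S.T v = K *ᵥ _
    rw [simMat_apply S', simMat_apply S, ← hy]
    simp

end Cfsg.Agent.ThreeTransp.M23Iso
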